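import Groth.Agent.Lib.ExtZeroMod9.Basic
import Mathlib

/-!
# The extension by zero is left adjoint to restriction to the slice
-/

set_option autoImplicit false
set_option maxHeartbeats 1000000

universe u

open CategoryTheory CategoryTheory.Limits Opposite DirectSum

noncomputable section

namespace Groth.Agent.ExtZeroMod9

variable {C : Type u} [SmallCategory C] {J : GrothendieckTopology C} (X : C) (A : Sheaf J RingCat.{u})

/-- Restriction of presheaves of modules to the slice. -/
abbrev restrP : PresheafOfModules.{u} A.obj ⥤ PresheafOfModules.{u} (RX X A) :=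
  PresheafOfModules.pushforward.{u} (F := Over.forget X) (R := A.obj) (S := RX X A) (𝟙 _)

open Classical in
/-- The adjoint of a morphism out of an extension by zero. -/
def toRestr {N : PresheafOfModules.{u} (RX X A)} {M : PresheafOfModules.{u} A.obj} (θ : (j X A).obj N ⟶ M) :
    N ⟶ (restrP X A).obj M where
  app W := ModuleCat.ofHom (X := N.obj W) (Y := ((restrP X A).obj M).obj W)
    { toFun := fun m => θ.app (op W.unop.left)
        (DirectSum.of (fun f => fib N (op W.unop.left) f) W.unop.hom m)
      map_add' := fun a b => Eq.trans
        (congrArg (θ.app (op W.unop.left)) (map_add (DirectSum.of (fun f => fib N (op W.unop.left) f) W.unop.hom) a b))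
        (map_add (θ.app (op W.unop.left)).hom _ _)
      map_smul' := fun r m => by
        refine Eq.trans (congrArg (θ.app (op W.unop.left)) ?_) ((θ.app (op W.unop.left)).hom.map_smul r _)
        exact (DirectSum.lof (A.obj.obj (op W.unop.left)) _ (fun f => fib N (op W.unop.left) f) W.unop.hom).map_smul r m }
  naturality {W W'} k := by
    refine ModuleCat.hom_ext (LinearMap.ext fun m => ?_)
    change θ.app (op W'.unop.left) (DirectSum.of (fun f => fib N (op W'.unop.left) f) W'.unop.hom (N.map k m)) =
      M.map k.unop.left.op (θ.app (op W.unop.left) (DirectSum.of (fun f => fib N (op W.unop.left) f) W.unop.hom m))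
    refine Eq.trans (congrArg (θ.app (op W'.unop.left)) ?_) (PresheafOfModules.naturality_apply θ k.unop.left.op _)
    refine Eq.trans ?_ (sumMap_of X A N k.unop.left.op W.unop.hom m).symm
    have key : ∀ (f' : W'.unop.left ⟶ X) (k' : Over.mk f' ⟶ W.unop), f' = W'.unop.hom → k'.left = k.unop.left →
        DirectSum.of (fun f => fib N (op W'.unop.left) f) W'.unop.hom (N.map k m) =
          DirectSum.of (fun f => fib N (op W'.unop.left) f) f' (N.map k'.op m) := by
      rintro f' k' rfl hk
      rw [show k' = k.unop from Over.OverMorphism.ext hk]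
      rfl
    exact key (k.unop.left ≫ W.unop.hom) (Over.homMk k.unop.left rfl) (Over.w k.unop) rfl

theorem toRestr_app {N : PresheafOfModules.{u} (RX X A)} {M : PresheafOfModules.{u} A.obj} (θ : (j X A).obj N ⟶ M)
    (V : Cᵒᵖ) (f : V.unop ⟶ X) (m : fib N V f) :
    (toRestr X A θ).app (op (Over.mk f)) m =
      θ.app V (letI : DecidableEq (V.unop ⟶ X) := Classical.decEq _; DirectSum.of (fun f => fib N V f) f m) := by
  classical
  refine congrArg (θ.app V) ?_
  congr!

variable {X A} in
/-- A component of a morphism to a restriction. -/
def comp1 {N : PresheafOfModules.{u} (RX X A)} {M : PresheafOfModules.{u} A.obj} (ψ : N ⟶ (restrP X A).obj M)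
    (V : Cᵒᵖ) (f : V.unop ⟶ X) : fib N V f →ₗ[A.obj.obj V] M.obj V :=
  { toFun := fun m => ψ.app (op (Over.mk f)) m
    map_add' := fun a b => map_add (ψ.app (op (Over.mk f))).hom a b
    map_smul' := fun r m => (ψ.app (op (Over.mk f))).hom.map_smul r m }

open Classical in
/-- The adjoint of a morphism to a restriction. -/
def ofRestr {N : PresheafOfModules.{u} (RX X A)} {M : PresheafOfModules.{u} A.obj} (ψ : N ⟶ (restrP X A).obj M) :
    (j X A).obj N ⟶ M where
  app V := ModuleCat.ofHom (X := ⨁ f : V.unop ⟶ X, fib N V f)
    (DirectSum.toModule (A.obj.obj V) (V.unop ⟶ X) (M.obj V) (comp1 ψ V))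
  naturality {V W} g := by
    refine ModuleCat.hom_ext (LinearMap.ext fun x => ?_)
    change DirectSum.toModule (A.obj.obj W) (W.unop ⟶ X) (M.obj W) (comp1 ψ W) (sumMap N g x) =
      M.map g (DirectSum.toModule (A.obj.obj V) (V.unop ⟶ X) (M.obj V) (comp1 ψ V) x)
    induction x using DirectSum.induction_on with
    | zero => simp only [map_zero]; first | rfl | exact (map_zero (M.map g).hom).symm
    | of f m =>
      rw [sumMap_of, ← DirectSum.lof_eq_of (A.obj.obj W), ← DirectSum.lof_eq_of (A.obj.obj V),
        DirectSum.toModule_lof, DirectSum.toModule_lof]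
      exact PresheafOfModules.naturality_apply ψ
        (Over.homMk g.unop : Over.mk (g.unop ≫ f) ⟶ Over.mk f).op m
    | add a b ha hb =>
      simp only [map_add, ha, hb]
      first | rfl | exact (map_add (M.map g).hom _ _).symm

/-- The adjunction on presheaves. -/
def jAdj : j X A ⊣ restrP X A :=
  Adjunction.mkOfHomEquiv
    { homEquiv := fun N M =>
        { toFun := toRestr X A
          invFun := ofRestr X A
          left_inv := fun θ => by
            classical
            refine PresheafOfModules.hom_ext fun V => ModuleCat.hom_ext (LinearMap.ext fun x => ?_)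
            change DirectSum.toModule (A.obj.obj V) (V.unop ⟶ X) (M.obj V) (comp1 (toRestr X A θ) V) x = θ.app V x
            induction x using DirectSum.induction_on with
            | zero => simp only [map_zero]; exact (map_zero (θ.app V).hom).symm
            | of f m =>
              rw [← DirectSum.lof_eq_of (A.obj.obj V), DirectSum.toModule_lof]
              exact toRestr_app X A θ V f m
            | add a b ha hb =>
              simp only [map_add, ha, hb]
              exact (map_add (θ.app V).hom _ _).symm
          right_inv := fun ψ => by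
            classical
            refine PresheafOfModules.hom_ext fun W => ModuleCat.hom_ext (LinearMap.ext fun m => ?_)
            refine (toRestr_app X A (ofRestr X A ψ) (op W.unop.left) W.unop.hom m).trans ?_
            change DirectSum.toModule (A.obj.obj (op W.unop.left)) (W.unop.left ⟶ X) (M.obj (op W.unop.left))
              (comp1 ψ (op W.unop.left)) _ = _
            rw [← DirectSum.lof_eq_of (A.obj.obj (op W.unop.left)), DirectSum.toModule_lof]
            rfl }
      homEquiv_naturality_left_symm := fun {N N' M} φ ψ => by
        classical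
        refine PresheafOfModules.hom_ext fun V => ModuleCat.hom_ext (LinearMap.ext fun x => ?_)
        change DirectSum.toModule (A.obj.obj V) (V.unop ⟶ X) (M.obj V) (comp1 (φ ≫ ψ) V) x =
          DirectSum.toModule (A.obj.obj V) (V.unop ⟶ X) (M.obj V) (comp1 ψ V) (jApp X A φ V x)
        induction x using DirectSum.induction_on with
        | zero => simp only [map_zero]
        | of f m =>
          rw [jApp_of, ← DirectSum.lof_eq_of (A.obj.obj V), ← DirectSum.lof_eq_of (A.obj.obj V),
            DirectSum.toModule_lof, DirectSum.toModule_lof]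
          rfl
        | add a b ha hb => simp only [map_add, ha, hb]
      homEquiv_naturality_right := fun {N M M'} θ ν => rfl }

/-- Extension by zero of sheaves of modules. -/
def jSh : SheafOfModules.{u} (A.over X) ⥤ SheafOfModules.{u} A :=
  SheafOfModules.forget (A.over X) ⋙ j X A ⋙ PresheafOfModules.sheafification (𝟙 A.obj)

/-- The adjunction on sheaves. -/
def jShAdj : jSh X A ⊣ SheafOfModules.overFunctor.{u} A X :=
  ((jAdj X A).comp (PresheafOfModules.sheafificationAdjunction (𝟙 A.obj))).restrictFullyFaithful
    (SheafOfModules.fullyFaithfulForget (A.over X)) (Functor.FullyFaithful.id (SheafOfModules.{u} A))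
    (Iso.refl _) (Iso.refl _)

theorem j_preservesMono {N N' : PresheafOfModules.{u} (RX X A)} (φ : N ⟶ N') [Mono φ] : Mono ((j X A).map φ) := by
  classical
  refine PresheafOfModules.mono_of_injective fun V => ?_
  exact (DFinsupp.mapRange_injective _ fun f => map_zero (φ.app (op (Over.mk f))).hom).2 fun f =>
    PresheafOfModules.injective_of_mono φ (op (Over.mk f))

theorem preservesFiniteLimits_jSh : PreservesFiniteLimits (jSh X A) := by
  haveI : PreservesColimitsOfSize.{0, 0} (jSh X A) := (jShAdj X A).leftAdjoint_preservesColimits
  haveI : (jSh X A).PreservesMonomorphisms := ⟨fun {N N'} φ _ => by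
    haveI : Mono ((SheafOfModules.forget (A.over X)).map φ) := inferInstance
    haveI := j_preservesMono X A ((SheafOfModules.forget (A.over X)).map φ)
    exact inferInstanceAs (Mono ((PresheafOfModules.sheafification (𝟙 A.obj)).map
      ((j X A).map ((SheafOfModules.forget (A.over X)).map φ))))⟩
  haveI : (SheafOfModules.overFunctor.{u} A X).Additive := ⟨fun {M N f g} => rfl⟩
  haveI : (jSh X A).Additive := (jShAdj X A).left_adjoint_additive
  haveI := Functor.preservesHomology_of_preservesMonos_and_cokernels (jSh X A)
  exact Functor.preservesFiniteLimits_of_preservesHomology _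

theorem faithful_jSh : (jSh X A).Faithful := ⟨fun {N N'} {φ ψ} h => by
  classical
  refine SheafOfModules.hom_ext (PresheafOfModules.hom_ext fun W => ModuleCat.hom_ext (LinearMap.ext fun m => ?_))
  let η := (PresheafOfModules.sheafificationAdjunction (𝟙 A.obj)).unit.app ((j X A).obj N'.val)
  have hη : (j X A).map φ.val ≫ η = (j X A).map ψ.val ≫ η :=
    ((PresheafOfModules.sheafificationAdjunction (𝟙 A.obj)).unit.naturality ((j X A).map φ.val)).trans
      ((congrArg (fun t => (PresheafOfModules.sheafificationAdjunction (𝟙 A.obj)).unit.app ((j X A).obj N.val) ≫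
          (SheafOfModules.forget A ⋙ PresheafOfModules.restrictScalars (𝟙 A.obj)).map t) h).trans
        ((PresheafOfModules.sheafificationAdjunction (𝟙 A.obj)).unit.naturality ((j X A).map ψ.val)).symm)
  let V := op W.unop.left
  let P := ((j X A).obj N'.val).presheaf
  let of' := fun (n : fib N'.val V W.unop.hom) => DirectSum.of (fun f => fib N'.val V f) W.unop.hom n
  have h3 : (CategoryTheory.toSheafify J P).app V (of' (φ.val.app W m)) =
      (CategoryTheory.toSheafify J P).app V (of' (ψ.val.app W m)) := by
    have h4 := ConcreteCategory.congr_hom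
      (congrArg (fun t => ((PresheafOfModules.toPresheaf _).map t).app V) hη)
      (DirectSum.of (fun f => fib N.val V f) W.unop.hom m)
    refine Eq.trans ?_ (h4.trans ?_)
    · exact congrArg ((CategoryTheory.toSheafify J P).app V) (jApp_of X A φ.val V W.unop.hom m).symm
    · exact congrArg ((CategoryTheory.toSheafify J P).app V) (jApp_of X A ψ.val V W.unop.hom m)
  have hS := Presheaf.equalizerSieve_mem J (CategoryTheory.toSheafify J P) _ _ h3
  have hsep := ((isSheaf_iff_isSheaf_of_type _ _).1
    ((Presheaf.isSheaf_iff_isSheaf_forget _ N'.val.presheaf (CategoryTheory.forget _)).1 N'.isSheaf))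
      ((Sieve.overEquiv W.unop).symm (Presheaf.equalizerSieve (F := P) (of' (φ.val.app W m)) (of' (ψ.val.app W m))))
      (GrothendieckTopology.overEquiv_symm_mem_over J W.unop _ hS)
  refine hsep.isSeparatedFor.ext fun W' k hk => ?_
  rw [Sieve.overEquiv_symm_iff] at hk
  have hk' : sumMap N'.val k.left.op (of' (φ.val.app W m)) = sumMap N'.val k.left.op (of' (ψ.val.app W m)) := hk
  rw [sumMap_of, sumMap_of] at hk'
  have h5 := DFinsupp.single_injective hk'
  have key : ∀ (f' : W'.left ⟶ X) (k' : Over.mk f' ⟶ W.unop), f' = W'.hom → k'.left = k.left →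
      N'.val.map k'.op (φ.val.app W m) = N'.val.map k'.op (ψ.val.app W m) →
      N'.val.map k.op (φ.val.app W m) = N'.val.map k.op (ψ.val.app W m) := by
    rintro f' k' rfl hk
    rw [show k' = k from Over.OverMorphism.ext hk]
    exact id
  exact key (k.left ≫ W.unop.hom) (Over.homMk k.left rfl) (Over.w k) rfl h5⟩

end Groth.Agent.ExtZeroMod9

end
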