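import Mathlib.Algebra.Category.ModuleCat.Presheaf.Sheafification
import Mathlib.Algebra.Category.ModuleCat.Presheaf.EpiMono
import Mathlib.Algebra.Category.ModuleCat.Sheaf.PushforwardContinuous
import Mathlib.Algebra.Category.ModuleCat.Sheaf.PullbackContinuous
import Mathlib.Algebra.Category.ModuleCat.Sheaf.Abelian
import Mathlib.Algebra.DirectSum.Module
import Mathlib.CategoryTheory.Adjunction.Restrict
import Mathlib.CategoryTheory.Abelian.Exact

/-!
# Extension by zero of sheaves of modules from a slice of a site
-/

set_option autoImplicit false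
set_option maxHeartbeats 1000000

universe u

open CategoryTheory CategoryTheory.Limits Opposite DirectSum

noncomputable section

namespace Groth.Agent.ExtZeroMod9

variable {C : Type u} [SmallCategory C] {J : GrothendieckTopology C} (X : C) (A : Sheaf J RingCat.{u})

/-- The presheaf of rings on the slice. -/
abbrev RX : (Over X)ᵒᵖ ⥤ RingCat.{u} := (A.over X).obj

variable {X A} in
/-- The sections over `f` as a module over the ring at the source of `f`. -/
abbrev fib (N : PresheafOfModules.{u} (RX X A)) (V : Cᵒᵖ) (f : V.unop ⟶ X) : ModuleCat.{u} (A.obj.obj V) :=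
  N.obj (op (Over.mk f))

variable {X A} in
/-- Restriction of a summand. -/
def fibMap (N : PresheafOfModules.{u} (RX X A)) {V W : Cᵒᵖ} (g : V ⟶ W) (f : V.unop ⟶ X) :
    fib N V f →+ fib N W (g.unop ≫ f) :=
  AddMonoidHom.mk' (fun m => N.map (Over.homMk g.unop : Over.mk (g.unop ≫ f) ⟶ Over.mk f).op m)
    fun a b => map_add _ a b

theorem fibMap_smul (N : PresheafOfModules.{u} (RX X A)) {V W : Cᵒᵖ} (g : V ⟶ W) (f : V.unop ⟶ X)
    (r : A.obj.obj V) (m : fib N V f) : fibMap N g f (r • m) = A.obj.map g r • fibMap N g f m :=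
  PresheafOfModules.map_smul N (Over.homMk g.unop : Over.mk (g.unop ≫ f) ⟶ Over.mk f).op r m

variable {X A} in
/-- The transition map of the extension by zero, additively. -/
def sumMap (N : PresheafOfModules.{u} (RX X A)) {V W : Cᵒᵖ} (g : V ⟶ W) :
    (⨁ f : V.unop ⟶ X, fib N V f) →+ ⨁ f : W.unop ⟶ X, fib N W f :=
  haveI : DecidableEq (V.unop ⟶ X) := Classical.decEq _
  haveI : DecidableEq (W.unop ⟶ X) := Classical.decEq _
  DirectSum.toAddMonoid fun f => (DirectSum.of (fun f' : W.unop ⟶ X => fib N W f') (g.unop ≫ f)).comp (fibMap N g f)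

open Classical in
theorem sumMap_of (N : PresheafOfModules.{u} (RX X A)) {V W : Cᵒᵖ} (g : V ⟶ W) (f : V.unop ⟶ X) (m : fib N V f) :
    sumMap N g (DirectSum.of (fun f' : V.unop ⟶ X => fib N V f') f m) =
      DirectSum.of (fun f' : W.unop ⟶ X => fib N W f') (g.unop ≫ f) (fibMap N g f m) := by
  unfold sumMap
  rw [DirectSum.toAddMonoid_of]
  rfl

open Classical in
theorem sumMap_smul (N : PresheafOfModules.{u} (RX X A)) {V W : Cᵒᵖ} (g : V ⟶ W) (r : A.obj.obj V)
    (x : ⨁ f : V.unop ⟶ X, fib N V f) : sumMap N g (r • x) = A.obj.map g r • sumMap N g x := by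
  induction x using DirectSum.induction_on with
  | zero => rw [smul_zero, map_zero, smul_zero]
  | of f m => rw [← DirectSum.of_smul, sumMap_of, fibMap_smul, DirectSum.of_smul, sumMap_of]
  | add a b ha hb => rw [smul_add, map_add, map_add, ha, hb, smul_add]

open Classical in
/-- The extension by zero of a presheaf of modules. -/
def jObj (N : PresheafOfModules.{u} (RX X A)) : PresheafOfModules.{u} A.obj where
  obj V := ModuleCat.of (A.obj.obj V) (⨁ f : V.unop ⟶ X, fib N V f)
  map {V W} g := ModuleCat.ofHom (X := ⨁ f : V.unop ⟶ X, fib N V f)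
    (Y := (ModuleCat.restrictScalars (A.obj.map g).hom).obj
      (ModuleCat.of (A.obj.obj W) (⨁ f : W.unop ⟶ X, fib N W f)))
    { toFun := sumMap N g
      map_add' := map_add _
      map_smul' := sumMap_smul X A N g }
  map_id V := by
    refine ModuleCat.hom_ext (LinearMap.ext fun x => ?_)
    change sumMap N (𝟙 V) x = x
    induction x using DirectSum.induction_on with
    | zero => rw [map_zero]
    | of f m =>
      rw [sumMap_of]
      refine DFinsupp.single_eq_of_sigma_eq ?_
      have he : (𝟙 V : V ⟶ V).unop ≫ f = f := Category.id_comp f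
      refine Sigma.ext he ?_
      have key : ∀ (f' : V.unop ⟶ X) (k : Over.mk f' ⟶ Over.mk f), f' = f → k.left = 𝟙 _ →
          HEq (N.map k.op m) m := by
        rintro f' k rfl hk
        rw [show k = 𝟙 _ from Over.OverMorphism.ext hk]
        exact heq_of_eq (congrArg (fun a => (a : _) ) (ConcreteCategory.congr_hom (N.map_id _) m))
      exact key _ _ he rfl
    | add a b ha hb => rw [map_add, ha, hb]
  map_comp {U V W} g h := by
    refine ModuleCat.hom_ext (LinearMap.ext fun x => ?_)
    change sumMap N (g ≫ h) x = sumMap N h (sumMap N g x)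
    induction x using DirectSum.induction_on with
    | zero => rw [map_zero, map_zero, map_zero]
    | of f m =>
      rw [sumMap_of, sumMap_of, sumMap_of]
      refine DFinsupp.single_eq_of_sigma_eq ?_
      have he : (g ≫ h).unop ≫ f = h.unop ≫ g.unop ≫ f := Category.assoc _ _ _
      refine Sigma.ext he ?_
      have key : ∀ (f' : W.unop ⟶ X) (k : Over.mk f' ⟶ Over.mk f) (k' : Over.mk f' ⟶ Over.mk (g.unop ≫ f)),
          k' ≫ (Over.homMk g.unop : Over.mk (g.unop ≫ f) ⟶ Over.mk f) = k →
          N.map k.op m = N.map k'.op (fibMap N g f m) := by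
        rintro f' k k' rfl
        exact PresheafOfModules.map_comp_apply N _ _ m
      have key2 : ∀ (f₁ f₂ : W.unop ⟶ X) (k₁ : Over.mk f₁ ⟶ Over.mk f) (k₂ : Over.mk f₂ ⟶ Over.mk (g.unop ≫ f)),
          f₁ = f₂ → k₁.left = k₂.left ≫ g.unop → HEq (N.map k₁.op m) (N.map k₂.op (fibMap N g f m)) := by
        rintro f₁ f₂ k₁ k₂ rfl hk
        exact heq_of_eq (key f₁ k₁ k₂ (Over.OverMorphism.ext hk.symm))
      exact key2 _ _ _ _ he rfl
    | add a b ha hb => rw [map_add, map_add, map_add, ha, hb]

open Classical in
/-- The extension by zero of a morphism, on one object. -/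
def jApp {N N' : PresheafOfModules.{u} (RX X A)} (φ : N ⟶ N') (V : Cᵒᵖ) :
    (⨁ f : V.unop ⟶ X, fib N V f) →ₗ[A.obj.obj V] ⨁ f : V.unop ⟶ X, fib N' V f :=
  DFinsupp.mapRange.linearMap fun f => (show fib N V f →ₗ[A.obj.obj V] fib N' V f from (φ.app (op (Over.mk f))).hom)

open Classical in
theorem jApp_of {N N' : PresheafOfModules.{u} (RX X A)} (φ : N ⟶ N') (V : Cᵒᵖ) (f : V.unop ⟶ X) (m : fib N V f) :
    jApp X A φ V (DirectSum.of (fun f' : V.unop ⟶ X => fib N V f') f m) =
      DirectSum.of (fun f' : V.unop ⟶ X => fib N' V f') f (φ.app (op (Over.mk f)) m) :=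
  DFinsupp.mapRange_single (hf := fun i => map_zero (φ.app (op (Over.mk i))).hom)

open Classical in
/-- Extension by zero of presheaves of modules. -/
def j : PresheafOfModules.{u} (RX X A) ⥤ PresheafOfModules.{u} A.obj where
  obj N := jObj X A N
  map {N N'} φ :=
    { app := fun V => ModuleCat.ofHom (jApp X A φ V)
      naturality := fun {V W} g => by
        refine ModuleCat.hom_ext (LinearMap.ext fun x => ?_)
        change jApp X A φ W (sumMap N g x) = sumMap N' g (jApp X A φ V x)
        induction x using DirectSum.induction_on with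
        | zero => simp only [map_zero]
        | of f m =>
          rw [sumMap_of, jApp_of, jApp_of, sumMap_of]
          exact congrArg _ (PresheafOfModules.naturality_apply φ _ m)
        | add a b ha hb => simp only [map_add, ha, hb] }
  map_id N := by
    refine PresheafOfModules.hom_ext fun V => ModuleCat.hom_ext (LinearMap.ext fun x => ?_)
    change jApp X A (𝟙 N) V x = x
    induction x using DirectSum.induction_on with
    | zero => exact map_zero _
    | of f m => exact jApp_of X A (𝟙 N) V f m
    | add a b ha hb => rw [map_add, ha, hb]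
  map_comp {N N' N''} φ ψ := by
    refine PresheafOfModules.hom_ext fun V => ModuleCat.hom_ext (LinearMap.ext fun x => ?_)
    change jApp X A (φ ≫ ψ) V x = jApp X A ψ V (jApp X A φ V x)
    induction x using DirectSum.induction_on with
    | zero => simp only [map_zero]
    | of f m => rw [jApp_of, jApp_of, jApp_of]; rfl
    | add a b ha hb => simp only [map_add, ha, hb]

end Groth.Agent.ExtZeroMod9

end
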